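import Cfsg.Agent.H50.Ux.Stmts
import Cfsg.Agent.H847.Ux.WittE

/-!
# UX (S5716), UT2: `Yc4`: the index of `Ω` in the orthogonal group (helper450 for helper50)
-/

set_option autoImplicit false
set_option linter.unusedSectionVars false

namespace Cfsg.Agent.H450.Ux

open Module QuadraticMap Cfsg.Agent.LieClassical.OrthCore Cfsg.Agent.LieClassical.OrthTrans
open Cfsg.Agent.H847.Ux

variable {F V : Type*} [Field F] [AddCommGroup V] [Module F V] {Q : QuadraticForm F V}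

/-- two reflections with the same norm are congruent modulo `E Q` -/
theorem refl_cong [Finite F] [FiniteDimensional F V] (hQ : Nondeg Q) (h5 : 5 ≤ finrank F V) {u v : V} (hu : Q u ≠ 0)
    (hv : Q v ≠ 0) (huv : Q u = Q v) : ∃ e ∈ E Q, refl Q v hv = e * refl Q u hu := by
  have hu0 : u ≠ 0 := by
    rintro rfl
    exact hu (map_zero Q)
  have hv0 : v ≠ 0 := by
    rintro rfl
    exact hv (map_zero Q)
  obtain ⟨g, hg, hgu⟩ := witt_E hQ (k := 1) (u := fun _ => u) (u' := fun _ => v)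
    (LinearIndependent.of_subsingleton 0 hu0) (LinearIndependent.of_subsingleton 0 hv0) (fun _ => huv)
    (fun _ _ => by rw [polar_self', polar_self', huv]) (by omega) h5
  have hgO : g ∈ O Q := E_le_O hg
  have h1 : g u = v := hgu 0
  have h2 : Q (g u) ≠ 0 := by rw [h1]; exact hv
  have h3 := refl_conj hgO hu h2
  have h4 : refl Q v hv = g * refl Q u hu * g⁻¹ := by
    rw [h3]
    congr 1
    exact h1.symm
  refine ⟨g * (refl Q u hu * g⁻¹ * (refl Q u hu)⁻¹), mul_mem hg (conj_mem_E (refl_mem_O hu) (inv_mem hg)), ?_⟩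
  rw [h4]
  group

/-- square classes -/
theorem exists_classes (F : Type*) [Field F] [Finite F] :
    ∃ ε : F, ε ≠ 0 ∧ ∀ a : F, a ≠ 0 → ∃ c : F, c ≠ 0 ∧ (a = c * c * 1 ∨ a = c * c * ε) := by
  classical
  have := Fintype.ofFinite F
  by_cases h : ∃ ε : F, ¬ IsSquare ε
  · obtain ⟨ε, hε⟩ := h
    have hε0 : ε ≠ 0 := by
      rintro rfl
      exact hε (IsSquare.zero)
    refine ⟨ε, hε0, fun a ha => ?_⟩
    by_cases hs : IsSquare a
    · obtain ⟨c, hc⟩ := hs
      have hc0 : c ≠ 0 := by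
        rintro rfl
        exact ha (by rw [hc, mul_zero])
      exact ⟨c, hc0, Or.inl (by rw [mul_one, hc])⟩
    · have h1 : quadraticChar F a = -1 := quadraticChar_neg_one_iff_not_isSquare.2 hs
      have h2 : quadraticChar F ε = -1 := quadraticChar_neg_one_iff_not_isSquare.2 hε
      have h3 : quadraticChar F (a * ε) = 1 := by rw [map_mul, h1, h2]; rfl
      have h4 : IsSquare (a * ε) := (quadraticChar_one_iff_isSquare (mul_ne_zero ha hε0)).1 h3
      obtain ⟨c, hc⟩ := h4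
      have hc0 : c ≠ 0 := by
        rintro rfl
        exact mul_ne_zero ha hε0 (by rw [hc, mul_zero])
      refine ⟨c / ε, div_ne_zero hc0 hε0, Or.inr ?_⟩
      field_simp
      rw [pow_two, ← hc]
  · push Not at h
    refine ⟨1, one_ne_zero, fun a ha => ?_⟩
    obtain ⟨c, hc⟩ := h a
    have hc0 : c ≠ 0 := by
      rintro rfl
      exact ha (by rw [hc, mul_zero])
    exact ⟨c, hc0, Or.inl (by rw [mul_one, hc])⟩

theorem refl_cong' [Finite F] [FiniteDimensional F V] (hQ : Nondeg Q) (h5 : 5 ≤ finrank F V) {u v : V} (hu : Q u ≠ 0)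
    (hv : Q v ≠ 0) {c : F} (hc : c ≠ 0) (huv : Q v = c * c * Q u) : ∃ e ∈ E Q, refl Q v hv = e * refl Q u hu := by
  have h1 : Q (c • u) = Q v := by rw [QuadraticMap.map_smul, smul_eq_mul, huv]
  have h2 : Q (c • u) ≠ 0 := by rw [h1]; exact hv
  obtain ⟨e, he, h3⟩ := refl_cong hQ h5 h2 hv h1
  exact ⟨e, he, by rw [h3, refl_smul hu hc h2]⟩

/-- **`|O(Q)| ≤ 4 |Ω(Q)|`** -/
theorem card_O_le [Finite F] [FiniteDimensional F V] (hQ : Nondeg Q) (h5 : 5 ≤ finrank F V) :
    Nat.card (O Q) ≤ 4 * Nat.card (E Q) := by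
  have hfV : Finite V := Module.finite_of_finite F
  have hfG : Finite (V ≃ₗ[F] V) := Finite.of_injective (fun g : V ≃ₗ[F] V => (g : V → V)) DFunLike.coe_injective
  obtain ⟨x, y, hxy, -⟩ := H847.Ux.exists_hyp_perp hQ (k := 0) ![] (by omega)
  have hval : ∀ c : F, ∃ u, Q u = c := by
    intro c
    refine ⟨x + c • y, ?_⟩
    rw [Q_add, QuadraticMap.map_smul, polar_smul_right, hxy.left, hxy.right, hxy.pair]
    simp
  obtain ⟨ε, hε, hcl⟩ := exists_classes F
  obtain ⟨u, hu'⟩ := hval 1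
  obtain ⟨w, hw'⟩ := hval ε
  have hu : Q u ≠ 0 := by rw [hu']; exact one_ne_zero
  have hw : Q w ≠ 0 := by rw [hw']; exact hε
  obtain ⟨r, hr⟩ : ∃ r, r = refl Q u hu := ⟨_, rfl⟩
  obtain ⟨s, hs⟩ : ∃ s, s = refl Q w hw := ⟨_, rfl⟩
  have hrO : r ∈ O Q := by rw [hr]; exact refl_mem_O hu
  have hsO : s ∈ O Q := by rw [hs]; exact refl_mem_O hw
  have hrr : r * r = 1 := by rw [hr]; exact refl_mul_self hu
  have hss : s * s = 1 := by rw [hs]; exact refl_mul_self hw
  -- every reflection is congruent to `r` or `s`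
  have hrefl : ∀ v (hv : Q v ≠ 0), ∃ e ∈ E Q, refl Q v hv = e * r ∨ refl Q v hv = e * s := by
    intro v hv
    obtain ⟨c, hc, h1 | h1⟩ := hcl (Q v) hv
    · obtain ⟨e, he, h2⟩ := refl_cong' hQ h5 hu hv hc (by rw [h1, hu'])
      exact ⟨e, he, Or.inl (by rw [h2, hr])⟩
    · obtain ⟨e, he, h2⟩ := refl_cong' hQ h5 hw hv hc (by rw [h1, hw'])
      exact ⟨e, he, Or.inr (by rw [h2, hs])⟩
  -- `r` and `s` commute modulo `E Q`
  have hcomm : ∃ e ∈ E Q, r * s = e * (s * r) := by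
    have h1 : Q (r w) ≠ 0 := by rw [mem_O.1 hrO]; exact hw
    obtain ⟨e, he, h2⟩ := refl_cong hQ h5 hw h1 (by rw [mem_O.1 hrO])
    have h3 := refl_conj hrO hw h1
    refine ⟨e, he, ?_⟩
    rw [h2, ← hs] at h3
    calc r * s = r * s * r⁻¹ * r := by group
      _ = e * s * r := by rw [h3]
      _ = e * (s * r) := by group
  obtain ⟨k, hk, hkrs⟩ := hcomm
  have hconj : ∀ g ∈ O Q, ∀ e ∈ E Q, g * e * g⁻¹ ∈ E Q := fun g hg e he => conj_mem_E hg he
  -- the normal form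
  let P : (V ≃ₗ[F] V) → Prop := fun g => ∃ e ∈ E Q, g = e ∨ g = e * r ∨ g = e * s ∨ g = e * (s * r)
  have hPE : ∀ e ∈ E Q, ∀ g, P g → P (e * g) := by
    rintro e he g ⟨e', he', h | h | h | h⟩
    · exact ⟨e * e', mul_mem he he', Or.inl (by rw [h])⟩
    · exact ⟨e * e', mul_mem he he', Or.inr (Or.inl (by rw [h, mul_assoc]))⟩
    · exact ⟨e * e', mul_mem he he', Or.inr (Or.inr (Or.inl (by rw [h, mul_assoc])))⟩
    · exact ⟨e * e', mul_mem he he', Or.inr (Or.inr (Or.inr (by rw [h, mul_assoc])))⟩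
  have hPr : ∀ g, P g → P (r * g) := by
    rintro g ⟨e, he, h | h | h | h⟩
    · refine ⟨r * e * r⁻¹, hconj r hrO e he, Or.inr (Or.inl ?_)⟩
      rw [h]; group
    · refine ⟨r * e * r⁻¹, hconj r hrO e he, Or.inl ?_⟩
      have h1 : r * (e * r) = r * e * r⁻¹ * (r * r) := by group
      rw [h, h1, hrr, mul_one]
    · refine ⟨r * e * r⁻¹ * k, mul_mem (hconj r hrO e he) hk, Or.inr (Or.inr (Or.inr ?_))⟩
      have h1 : r * (e * s) = r * e * r⁻¹ * (r * s) := by group
      rw [h, h1, hkrs]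
      group
    · refine ⟨r * e * r⁻¹ * k, mul_mem (hconj r hrO e he) hk, Or.inr (Or.inr (Or.inl ?_))⟩
      have h1 : r * (e * (s * r)) = r * e * r⁻¹ * (r * s) * r := by group
      rw [h, h1, hkrs]
      have h2 : r * e * r⁻¹ * (k * (s * r)) * r = r * e * r⁻¹ * k * s * (r * r) := by group
      rw [h2, hrr, mul_one]
  have hPs : ∀ g, P g → P (s * g) := by
    rintro g ⟨e, he, h | h | h | h⟩
    · refine ⟨s * e * s⁻¹, hconj s hsO e he, Or.inr (Or.inr (Or.inl ?_))⟩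
      rw [h]; group
    · refine ⟨s * e * s⁻¹, hconj s hsO e he, Or.inr (Or.inr (Or.inr ?_))⟩
      rw [h]; group
    · refine ⟨s * e * s⁻¹, hconj s hsO e he, Or.inl ?_⟩
      have h1 : s * (e * s) = s * e * s⁻¹ * (s * s) := by group
      rw [h, h1, hss, mul_one]
    · refine ⟨s * e * s⁻¹, hconj s hsO e he, Or.inr (Or.inl ?_)⟩
      have h1 : s * (e * (s * r)) = s * e * s⁻¹ * (s * s) * r := by group
      rw [h, h1, hss, mul_one]
  have hP1 : P 1 := ⟨1, one_mem _, Or.inl rfl⟩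
  have hgen : ∀ x ∈ reflSet Q ∪ siegelSet Q, ∀ g, P g → P (x * g) := by
    rintro x (⟨v, hv, rfl⟩ | hx) g hg
    · obtain ⟨e, he, h1 | h1⟩ := hrefl v hv
      · rw [h1, mul_assoc]
        exact hPE e he _ (hPr g hg)
      · rw [h1, mul_assoc]
        exact hPE e he _ (hPs g hg)
    · exact hPE x (Subgroup.subset_closure hx) g hg
  have hinv : ∀ x ∈ reflSet Q ∪ siegelSet Q, ∀ g, P g → P (x⁻¹ * g) := by
    rintro x (⟨v, hv, rfl⟩ | hx) g hg
    · rw [refl_inv]
      exact hgen _ (Or.inl ⟨v, hv, rfl⟩) g hg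
    · exact hPE _ (inv_mem (Subgroup.subset_closure hx)) g hg
  have hall : ∀ g ∈ O Q, P g := by
    intro g hg
    rw [O_eq_closure hQ] at hg
    induction hg using Subgroup.closure_induction_left with
    | one => exact hP1
    | mul_left x hx y _ ih => exact hgen x hx y ih
    | inv_mul_cancel x hx y _ ih => exact hinv x hx y ih
  -- counting
  let f : Fin 4 × E Q → (V ≃ₗ[F] V) := fun p => (p.2 : V ≃ₗ[F] V) * (![1, r, s, s * r] p.1)
  have hsurj : ∀ g : O Q, ∃ p, f p = g := by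
    rintro ⟨g, hg⟩
    obtain ⟨e, he, h | h | h | h⟩ := hall g hg
    · exact ⟨(0, ⟨e, he⟩), by change e * 1 = g; rw [mul_one, h]⟩
    · exact ⟨(1, ⟨e, he⟩), h.symm⟩
    · exact ⟨(2, ⟨e, he⟩), h.symm⟩
    · exact ⟨(3, ⟨e, he⟩), h.symm⟩
  choose φ hφ using hsurj
  have hinj : Function.Injective φ := by
    intro a b hab
    apply Subtype.ext
    rw [← hφ a, ← hφ b, hab]
  have h1 := Nat.card_le_card_of_injective φ hinj
  rwa [Nat.card_prod, Nat.card_fin] at h1

/-- **Yc4** -/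
theorem yc4 : H50.Ux.Yc4 := fun _ _ _ _ _ _ _ _ hQ hd => card_O_le (fun x hx => hQ x hx) (by omega)

end Cfsg.Agent.H450.Ux
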